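import Groth.Agent.ResProp.EF.K62.Pts
import Groth.Agent.ResProp.EF.K83.FinDatum

/-!
# The coaction `ρ : F.R → F.R ⊗ O` from `F.gact`

`O` a bialgebra over `Lb` with multiplicative invertible matrices `X`, `Xm` (so `O(GL_r1 × GL_rm) → O`).  The coaction is
the transposed one: `ρ(M_bj) = ∑ M_cj ⊗ X_cb` (a right comodule algebra).
-/

set_option autoImplicit false
universe u

open Groth.Agent.Grpsch.AffGrpd Groth.Agent.ResProp.EF.K412 TensorProduct

noncomputable section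

namespace Groth.Agent.ResProp.EF.K62

/-- multiplicative invertible matrix over a bialgebra -/
structure IsMulMat (Lb : Type u) [CommRing Lb] {O : Type u} [CommRing O] [Bialgebra Lb O] {ι : Type} [Fintype ι]
    [DecidableEq ι] (X : Matrix ι ι O) : Prop where
  unit : IsUnit X.det
  comul : ∀ i j, Coalgebra.comul (R := Lb) (X i j) = ∑ k, X i k ⊗ₜ[Lb] X k j

namespace IsMulMat

variable {Lb : Type u} [CommRing Lb] {O : Type u} [CommRing O] [Bialgebra Lb O] {ι : Type} [Fintype ι]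
  [DecidableEq ι] {X : Matrix ι ι O}

theorem isUnit (h : IsMulMat Lb X) : IsUnit X := (Matrix.isUnit_iff_isUnit_det X).2 h.unit

/-- `Δ X = (X ⊗ 1)(1 ⊗ X)` -/
theorem map_comul (h : IsMulMat Lb X) :
    X.map (Bialgebra.comulAlgHom Lb O).toRingHom =
      X.map (Algebra.TensorProduct.includeLeftRingHom : O →+* O ⊗[Lb] O) *
        X.map (Algebra.TensorProduct.includeRight : O →ₐ[Lb] O ⊗[Lb] O).toRingHom := by
  ext i j
  rw [Matrix.mul_apply, Matrix.map_apply]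
  refine (h.comul i j).trans (Finset.sum_congr rfl fun k _ => ?_)
  change _ = (X i k ⊗ₜ[Lb] (1 : O)) * ((1 : O) ⊗ₜ[Lb] X k j)
  rw [Algebra.TensorProduct.tmul_mul_tmul, mul_one, one_mul]

theorem map_counit (h : IsMulMat Lb X) : X.map (Bialgebra.counitAlgHom Lb O).toRingHom = 1 := by
  -- `X = (ε X) X` over `O`
  have h1 : X = (X.map (Bialgebra.counitAlgHom Lb O).toRingHom).map (algebraMap Lb O) * X := by
    ext i j
    have e := Coalgebra.rTensor_counit_comul (R := Lb) (X i j)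
    rw [h.comul, map_sum] at e
    have e' := congrArg (TensorProduct.lid Lb O) e
    rw [TensorProduct.lid_tmul, one_smul, map_sum] at e'
    rw [Matrix.mul_apply]
    refine e'.symm.trans (Finset.sum_congr rfl fun k _ => ?_)
    rw [LinearMap.rTensor_tmul, TensorProduct.lid_tmul, Algebra.smul_def]
    rfl
  -- apply `ε`
  have h2 : X.map (Bialgebra.counitAlgHom Lb O).toRingHom =
      X.map (Bialgebra.counitAlgHom Lb O).toRingHom * X.map (Bialgebra.counitAlgHom Lb O).toRingHom := by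
    have := congrArg (fun Y => Matrix.map Y (Bialgebra.counitAlgHom Lb O).toRingHom) h1
    refine this.trans ?_
    rw [Matrix.map_mul, Matrix.map_map]
    congr 1
    ext i j
    exact (Bialgebra.counitAlgHom Lb O).commutes _
  have h3 : IsUnit (X.map (Bialgebra.counitAlgHom Lb O).toRingHom) := by
    have := h.isUnit.map (Bialgebra.counitAlgHom Lb O).toRingHom.mapMatrix
    exact this
  obtain ⟨⟨Z, W, e1, e2⟩, hZ⟩ := h3
  have hZ' : Z = X.map (Bialgebra.counitAlgHom Lb O).toRingHom := hZ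
  rw [← hZ'] at h2 ⊢
  calc Z = W * (Z * Z) := by rw [← Matrix.mul_assoc, e2, Matrix.one_mul]
    _ = W * Z := by rw [← h2]
    _ = 1 := e2

/-- the determinant is group-like -/
theorem groupLike (h : IsMulMat Lb X) : IsGroupLikeElem Lb X.det where
  counit_eq_one := by
    have : (Bialgebra.counitAlgHom Lb O).toRingHom X.det = 1 := by
      rw [RingHom.map_det, RingHom.mapMatrix_apply, h.map_counit, Matrix.det_one]
    exact this
  comul_eq_tmul_self := by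
    have : (Bialgebra.comulAlgHom Lb O).toRingHom X.det = X.det ⊗ₜ[Lb] X.det := by
      rw [RingHom.map_det, RingHom.mapMatrix_apply, h.map_comul, Matrix.det_mul]
      have e1 : (X.map (Algebra.TensorProduct.includeLeftRingHom : O →+* O ⊗[Lb] O)).det =
          X.det ⊗ₜ[Lb] (1 : O) :=
        ((Algebra.TensorProduct.includeLeftRingHom : O →+* O ⊗[Lb] O).map_det X).symm
      have e2 : (X.map (Algebra.TensorProduct.includeRight : O →ₐ[Lb] O ⊗[Lb] O).toRingHom).det =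
          (1 : O) ⊗ₜ[Lb] X.det :=
        ((Algebra.TensorProduct.includeRight : O →ₐ[Lb] O ⊗[Lb] O).toRingHom.map_det X).symm
      rw [e1, e2, Algebra.TensorProduct.tmul_mul_tmul, mul_one, one_mul]
    exact this

end IsMulMat

theorem isGroupLike_mul {Lb : Type u} [CommRing Lb] {O : Type u} [CommRing O] [Bialgebra Lb O] {a b : O}
    (ha : IsGroupLikeElem Lb a) (hb : IsGroupLikeElem Lb b) : IsGroupLikeElem Lb (a * b) where
  counit_eq_one := by
    have h := map_mul (Bialgebra.counitAlgHom Lb O) a b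
    change Coalgebra.counit (a * b) = Coalgebra.counit a * Coalgebra.counit b at h
    rw [h, ha.counit_eq_one, hb.counit_eq_one, mul_one]
  comul_eq_tmul_self := by
    have h := map_mul (Bialgebra.comulAlgHom Lb O) a b
    change Coalgebra.comul (a * b) = Coalgebra.comul a * Coalgebra.comul b at h
    rw [h, ha.comul_eq_tmul_self, hb.comul_eq_tmul_self, Algebra.TensorProduct.tmul_mul_tmul]

variable {A B : Type u} [CommRing A] [CommRing B] {Lb : Type u} [CommRing Lb] [Algebra Lb A] {G : RGrpd A B}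
variable {D : Gen Lb G} {k : Type u} [Field k] {x : A →+* k} (F : FrRing D x)
variable {O : Type u} [CommRing O] [Bialgebra Lb O] {X : Matrix (Fin F.r1) (Fin F.r1) O}
  {Xm : Matrix (Fin F.rm) (Fin F.rm) O}

/-- `R → R ⊗ O` -/
abbrev inl (Lb R O : Type u) [CommRing Lb] [CommRing R] [CommRing O] [Algebra Lb R] [Algebra Lb O] : R →+* R ⊗[Lb] O :=
  Algebra.TensorProduct.includeLeftRingHom

/-- `O → R ⊗ O` -/
abbrev inr (Lb R O : Type u) [CommRing Lb] [CommRing R] [CommRing O] [Algebra Lb R] [Algebra Lb O] : O →+* R ⊗[Lb] O :=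
  (Algebra.TensorProduct.includeRight : O →ₐ[Lb] R ⊗[Lb] O).toRingHom

theorem isUnit_map_transpose {R S : Type u} [CommRing R] [CommRing S] {n : ℕ} {X : Matrix (Fin n) (Fin n) R}
    (h : IsUnit X) (f : R →+* S) : IsUnit (X.map f).transpose := by
  rw [Matrix.isUnit_transpose]
  exact h.map f.mapMatrix

theorem exists_rho (hX : IsMulMat Lb X) (hXm : IsMulMat Lb Xm) : ∃ ρ : F.R →+* F.R ⊗[Lb] O,
    IsGTrans (X.map (inr Lb F.R O)).transpose (Xm.map (inr Lb F.R O)).transpose (F.P.map (inl Lb F.R O))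
      (F.P.map ρ) :=
  F.gact (inl Lb F.R O) _ _ (isUnit_map_transpose hX.isUnit _) (isUnit_map_transpose hXm.isUnit _)

/-- the coaction, as a ring map -/
def rho0 (hX : IsMulMat Lb X) (hXm : IsMulMat Lb Xm) : F.R →+* F.R ⊗[Lb] O := (exists_rho F hX hXm).choose

theorem isGTrans_rho0 (hX : IsMulMat Lb X) (hXm : IsMulMat Lb Xm) :
    IsGTrans (X.map (inr Lb F.R O)).transpose (Xm.map (inr Lb F.R O)).transpose (F.P.map (inl Lb F.R O))
      (F.P.map (rho0 F hX hXm)) :=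
  (exists_rho F hX hXm).choose_spec

theorem rho0_a (hX : IsMulMat Lb X) (hXm : IsMulMat Lb Xm) :
    (rho0 F hX hXm).comp F.P.a = (inl Lb F.R O).comp F.P.a := (isGTrans_rho0 F hX hXm).ha

/-- the coaction, `A`-linear -/
def rhoA (hX : IsMulMat Lb X) (hXm : IsMulMat Lb Xm) : F.R →ₐ[A] F.R ⊗[Lb] O :=
  { rho0 F hX hXm with commutes' := fun a => RingHom.congr_fun (rho0_a F hX hXm) a }

/-- **the coaction** -/
def rho (hX : IsMulMat Lb X) (hXm : IsMulMat Lb Xm) : F.R →ₐ[Lb] F.R ⊗[Lb] O :=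
  { rho0 F hX hXm with commutes' := fun l => RingHom.congr_fun (rho0_a F hX hXm) (algebraMap Lb A l) }

theorem rho_eq (hX : IsMulMat Lb X) (hXm : IsMulMat Lb Xm) : (rho F hX hXm : F.R →+* F.R ⊗[Lb] O) = rho0 F hX hXm :=
  rfl

theorem rhoA_apply (hX : IsMulMat Lb X) (hXm : IsMulMat Lb Xm) (r : F.R) : rhoA F hX hXm r = rho F hX hXm r := rfl

theorem isGTrans_rho (hX : IsMulMat Lb X) (hXm : IsMulMat Lb Xm) :
    IsGTrans (X.map (inr Lb F.R O)).transpose (Xm.map (inr Lb F.R O)).transpose (F.P.map (inl Lb F.R O))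
      (F.P.map (rho F hX hXm : F.R →+* F.R ⊗[Lb] O)) :=
  isGTrans_rho0 F hX hXm

theorem rho_a (hX : IsMulMat Lb X) (hXm : IsMulMat Lb Xm) (a : A) :
    rho F hX hXm (F.P.a a) = F.P.a a ⊗ₜ[Lb] (1 : O) := RingHom.congr_fun (rho0_a F hX hXm) a

theorem rho_M (hX : IsMulMat Lb X) (hXm : IsMulMat Lb Xm) (b : Fin F.r1) (j : Fin D.n) :
    rho F hX hXm (F.P.M b j) = ∑ c, F.P.M c j ⊗ₜ[Lb] X c b := by
  have h := congrFun (congrFun (isGTrans_rho F hX hXm).hM b) j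
  rw [Matrix.mul_apply] at h
  refine h.trans (Finset.sum_congr rfl fun c _ => ?_)
  change ((1 : F.R) ⊗ₜ[Lb] X c b) * (F.P.M c j ⊗ₜ[Lb] (1 : O)) = _
  rw [Algebra.TensorProduct.tmul_mul_tmul, mul_one, one_mul]

theorem rho_Mm (hX : IsMulMat Lb X) (hXm : IsMulMat Lb Xm) (b : Fin F.rm) (J : Fin D.m → Fin D.n) :
    rho F hX hXm (F.P.Mm b J) = ∑ c, F.P.Mm c J ⊗ₜ[Lb] Xm c b := by
  have h := congrFun (congrFun (isGTrans_rho F hX hXm).hMm b) J
  rw [Matrix.mul_apply] at h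
  refine h.trans (Finset.sum_congr rfl fun c _ => ?_)
  change ((1 : F.R) ⊗ₜ[Lb] Xm c b) * (F.P.Mm c J ⊗ₜ[Lb] (1 : O)) = _
  rw [Algebra.TensorProduct.tmul_mul_tmul, mul_one, one_mul]

/-- **the coaction on points**: `(w, g) ↦ (X(g)ᵀ, Xm(g)ᵀ) • w` -/
theorem isGTrans_points (hX : IsMulMat Lb X) (hXm : IsMulMat Lb Xm) {T : Type u} [CommRing T]
    (f : F.R ⊗[Lb] O →+* T) :
    IsGTrans (X.map (f.comp (inr Lb F.R O))).transpose (Xm.map (f.comp (inr Lb F.R O))).transpose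
      (F.P.map (f.comp (inl Lb F.R O))) (F.P.map (f.comp (rho F hX hXm : F.R →+* F.R ⊗[Lb] O))) :=
  IsGTrans.map (isGTrans_rho F hX hXm) f

/-- uniqueness -/
theorem rho_unique (hX : IsMulMat Lb X) (hXm : IsMulMat Lb Xm) {T : Type u} [CommRing T]
    (f : F.R ⊗[Lb] O →+* T) (ψ : F.R →+* T)
    (h : IsGTrans (X.map (f.comp (inr Lb F.R O))).transpose (Xm.map (f.comp (inr Lb F.R O))).transpose
      (F.P.map (f.comp (inl Lb F.R O))) (F.P.map ψ)) : ψ = f.comp (rho F hX hXm : F.R →+* F.R ⊗[Lb] O) :=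
  hom_ext F (IsGTrans.unique (isUnit_map_transpose hX.isUnit _) h (isGTrans_points F hX hXm f))

/-- coassociativity, as ring maps -/
theorem rho_coassoc (hX : IsMulMat Lb X) (hXm : IsMulMat Lb Xm) (r : F.R) :
    Algebra.TensorProduct.assoc Lb Lb Lb F.R O O
      (Algebra.TensorProduct.map (rho F hX hXm) (AlgHom.id Lb O) (rho F hX hXm r)) =
    Algebra.TensorProduct.map (AlgHom.id Lb F.R) (Bialgebra.comulAlgHom Lb O) (rho F hX hXm r) := by
  set g1 : F.R ⊗[Lb] O →ₐ[Lb] F.R ⊗[Lb] (O ⊗[Lb] O) :=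
    (Algebra.TensorProduct.assoc Lb Lb Lb F.R O O : _ →ₐ[Lb] _).comp
      (Algebra.TensorProduct.map (rho F hX hXm) (AlgHom.id Lb O)) with hg1
  set g2 : F.R ⊗[Lb] O →ₐ[Lb] F.R ⊗[Lb] (O ⊗[Lb] O) :=
    Algebra.TensorProduct.map (AlgHom.id Lb F.R) (Bialgebra.comulAlgHom Lb O) with hg2
  set κ : F.R ⊗[Lb] O →ₐ[Lb] F.R ⊗[Lb] (O ⊗[Lb] O) :=
    Algebra.TensorProduct.map (AlgHom.id Lb F.R) (Algebra.TensorProduct.includeLeft : O →ₐ[Lb] O ⊗[Lb] O) with hκ
  set i2 : O →+* F.R ⊗[Lb] (O ⊗[Lb] O) := (inr Lb F.R (O ⊗[Lb] O)).comp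
    (Algebra.TensorProduct.includeLeftRingHom : O →+* O ⊗[Lb] O) with hi2
  set i3 : O →+* F.R ⊗[Lb] (O ⊗[Lb] O) := (inr Lb F.R (O ⊗[Lb] O)).comp
    (Algebra.TensorProduct.includeRight : O →ₐ[Lb] O ⊗[Lb] O).toRingHom with hi3
  have a1 : (g1 : F.R ⊗[Lb] O →+* F.R ⊗[Lb] (O ⊗[Lb] O)).comp (inl Lb F.R O) = (κ : F.R ⊗[Lb] O →+* F.R ⊗[Lb] (O ⊗[Lb] O)).comp (rho F hX hXm : F.R →+* F.R ⊗[Lb] O) := by
    ext r
    change Algebra.TensorProduct.assoc Lb Lb Lb F.R O O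
      (Algebra.TensorProduct.map (rho F hX hXm) (AlgHom.id Lb O) (r ⊗ₜ[Lb] (1 : O))) =
      Algebra.TensorProduct.map (AlgHom.id Lb F.R) (Algebra.TensorProduct.includeLeft : O →ₐ[Lb] O ⊗[Lb] O)
        (rho F hX hXm r)
    rw [Algebra.TensorProduct.map_tmul, AlgHom.id_apply]
    generalize rho F hX hXm r = z
    induction z using TensorProduct.induction_on with
    | zero => simp
    | tmul a b => simp
    | add a b ha hb => rw [TensorProduct.add_tmul, map_add, ha, hb, map_add]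
  have a2 : (g1 : F.R ⊗[Lb] O →+* F.R ⊗[Lb] (O ⊗[Lb] O)).comp (inr Lb F.R O) = i3 := by
    ext o
    change Algebra.TensorProduct.assoc Lb Lb Lb F.R O O
      (Algebra.TensorProduct.map (rho F hX hXm) (AlgHom.id Lb O) ((1 : F.R) ⊗ₜ[Lb] o)) = _
    rw [Algebra.TensorProduct.map_tmul, map_one, AlgHom.id_apply, Algebra.TensorProduct.one_def,
      Algebra.TensorProduct.assoc_tmul]
    rfl
  have a3 : (κ : F.R ⊗[Lb] O →+* F.R ⊗[Lb] (O ⊗[Lb] O)).comp (inl Lb F.R O) = inl Lb F.R (O ⊗[Lb] O) := by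
    ext r
    change Algebra.TensorProduct.map (AlgHom.id Lb F.R) (Algebra.TensorProduct.includeLeft : O →ₐ[Lb] O ⊗[Lb] O)
      (r ⊗ₜ[Lb] (1 : O)) = r ⊗ₜ[Lb] (1 : O ⊗[Lb] O)
    rw [Algebra.TensorProduct.map_tmul, map_one, AlgHom.id_apply]
  have a4 : (κ : F.R ⊗[Lb] O →+* F.R ⊗[Lb] (O ⊗[Lb] O)).comp (inr Lb F.R O) = i2 := by
    ext o
    change Algebra.TensorProduct.map (AlgHom.id Lb F.R) (Algebra.TensorProduct.includeLeft : O →ₐ[Lb] O ⊗[Lb] O)
      ((1 : F.R) ⊗ₜ[Lb] o) = _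
    rw [Algebra.TensorProduct.map_tmul, map_one]
    rfl
  have a5 : (g2 : F.R ⊗[Lb] O →+* F.R ⊗[Lb] (O ⊗[Lb] O)).comp (inl Lb F.R O) = inl Lb F.R (O ⊗[Lb] O) := by
    ext r
    change Algebra.TensorProduct.map (AlgHom.id Lb F.R) (Bialgebra.comulAlgHom Lb O)
      (r ⊗ₜ[Lb] (1 : O)) = r ⊗ₜ[Lb] (1 : O ⊗[Lb] O)
    rw [Algebra.TensorProduct.map_tmul, map_one, AlgHom.id_apply]
  have a6 : (g2 : F.R ⊗[Lb] O →+* F.R ⊗[Lb] (O ⊗[Lb] O)).comp (inr Lb F.R O) =
      (inr Lb F.R (O ⊗[Lb] O)).comp (Bialgebra.comulAlgHom Lb O).toRingHom := by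
    ext o
    change Algebra.TensorProduct.map (AlgHom.id Lb F.R) (Bialgebra.comulAlgHom Lb O)
      ((1 : F.R) ⊗ₜ[Lb] o) = _
    rw [Algebra.TensorProduct.map_tmul, map_one]
    rfl
  have m1 := isGTrans_points F hX hXm (g1 : F.R ⊗[Lb] O →+* F.R ⊗[Lb] (O ⊗[Lb] O))
  have m2 := isGTrans_points F hX hXm (κ : F.R ⊗[Lb] O →+* F.R ⊗[Lb] (O ⊗[Lb] O))
  have m3 := isGTrans_points F hX hXm (g2 : F.R ⊗[Lb] O →+* F.R ⊗[Lb] (O ⊗[Lb] O))
  rw [a1, a2] at m1
  rw [a3, a4] at m2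
  rw [a5, a6] at m3
  have m4 := IsGTrans.trans m2 m1
  have e : ∀ {ι : Type} [Fintype ι] [DecidableEq ι] {Y : Matrix ι ι O}, IsMulMat Lb Y →
      (Y.map ((inr Lb F.R (O ⊗[Lb] O)).comp (Bialgebra.comulAlgHom Lb O).toRingHom)).transpose =
        (Y.map i3).transpose * (Y.map i2).transpose := by
    intro ι _ _ Y hY
    rw [← Matrix.transpose_mul]
    congr 1
    have := congrArg (fun Z => Matrix.map Z (inr Lb F.R (O ⊗[Lb] O))) hY.map_comul
    rw [Matrix.map_mul, Matrix.map_map, Matrix.map_map, Matrix.map_map] at this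
    exact this
  rw [← e hX, ← e hXm] at m4
  have := hom_ext F (IsGTrans.unique (isUnit_map_transpose hX.isUnit _) m4 m3)
  exact RingHom.congr_fun this r

/-- counit, as ring maps -/
theorem rho_counit (hX : IsMulMat Lb X) (hXm : IsMulMat Lb Xm) (r : F.R) :
    Algebra.TensorProduct.map (AlgHom.id Lb F.R) (Bialgebra.counitAlgHom Lb O) (rho F hX hXm r) =
      r ⊗ₜ[Lb] (1 : Lb) := by
  set g : F.R ⊗[Lb] O →ₐ[Lb] F.R ⊗[Lb] Lb :=
    Algebra.TensorProduct.map (AlgHom.id Lb F.R) (Bialgebra.counitAlgHom Lb O) with hg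
  have a1 : (g : F.R ⊗[Lb] O →+* F.R ⊗[Lb] Lb).comp (inl Lb F.R O) = inl Lb F.R Lb := by
    ext r
    change Algebra.TensorProduct.map (AlgHom.id Lb F.R) (Bialgebra.counitAlgHom Lb O)
      (r ⊗ₜ[Lb] (1 : O)) = r ⊗ₜ[Lb] (1 : Lb)
    rw [Algebra.TensorProduct.map_tmul, map_one, AlgHom.id_apply]
  have a2 : (g : F.R ⊗[Lb] O →+* F.R ⊗[Lb] Lb).comp (inr Lb F.R O) = (inr Lb F.R Lb).comp (Bialgebra.counitAlgHom Lb O).toRingHom := by
    ext o
    change Algebra.TensorProduct.map (AlgHom.id Lb F.R) (Bialgebra.counitAlgHom Lb O)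
      ((1 : F.R) ⊗ₜ[Lb] o) = _
    rw [Algebra.TensorProduct.map_tmul, map_one]
    rfl
  have m := isGTrans_points F hX hXm (g : F.R ⊗[Lb] O →+* F.R ⊗[Lb] Lb)
  rw [a1, a2] at m
  have e : ∀ {ι : Type} [Fintype ι] [DecidableEq ι] {Y : Matrix ι ι O}, IsMulMat Lb Y →
      (Y.map ((inr Lb F.R Lb).comp (Bialgebra.counitAlgHom Lb O).toRingHom)).transpose = 1 := by
    intro ι _ _ Y hY
    have := congrArg (fun Z => Matrix.map Z (inr Lb F.R Lb)) hY.map_counit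
    rw [Matrix.map_map, Matrix.map_one _ (map_zero _) (map_one _)] at this
    exact (congrArg Matrix.transpose this).trans Matrix.transpose_one
  rw [e hX, e hXm] at m
  have := hom_ext F (IsGTrans.unique isUnit_one m (IsGTrans.one _))
  exact RingHom.congr_fun this r

/-- the products of minors -/
def sIJ (I : Fin F.r1 → Fin D.n) (J : Fin F.rm → (Fin D.m → Fin D.n)) : F.R :=
  (F.P.M.submatrix id I).det * (F.P.Mm.submatrix id J).det

/-- the weight of the `sIJ` -/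
def chi (X : Matrix (Fin F.r1) (Fin F.r1) O) (Xm : Matrix (Fin F.rm) (Fin F.rm) O) : O := X.det * Xm.det

theorem isGroupLike_chi (hX : IsMulMat Lb X) (hXm : IsMulMat Lb Xm) : IsGroupLikeElem Lb (chi F X Xm) :=
  isGroupLike_mul hX.groupLike hXm.groupLike

theorem isUnit_chi (hX : IsMulMat Lb X) (hXm : IsMulMat Lb Xm) : IsUnit (chi F X Xm) := hX.unit.mul hXm.unit

theorem rho_det (hX : IsMulMat Lb X) (hXm : IsMulMat Lb Xm) (I : Fin F.r1 → Fin D.n) :
    rho F hX hXm (F.P.M.submatrix id I).det = (F.P.M.submatrix id I).det ⊗ₜ[Lb] X.det := by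
  have h := (isGTrans_rho F hX hXm).hM
  have h1 : (F.P.M.submatrix id I).map (rho F hX hXm : F.R →+* F.R ⊗[Lb] O) =
      (X.map (inr Lb F.R O)).transpose * (F.P.M.submatrix id I).map (inl Lb F.R O) := by
    ext b i
    exact (congrFun (congrFun h b) (I i)).trans (by rw [Matrix.mul_apply, Matrix.mul_apply]; rfl)
  have h2 : rho F hX hXm (F.P.M.submatrix id I).det =
      ((F.P.M.submatrix id I).map (rho F hX hXm : F.R →+* F.R ⊗[Lb] O)).det :=
    (rho F hX hXm : F.R →+* F.R ⊗[Lb] O).map_det _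
  rw [h2, h1, Matrix.det_mul, Matrix.det_transpose]
  have e1 : (X.map (inr Lb F.R O)).det = (1 : F.R) ⊗ₜ[Lb] X.det := ((inr Lb F.R O).map_det X).symm
  have e2 : ((F.P.M.submatrix id I).map (inl Lb F.R O)).det = (F.P.M.submatrix id I).det ⊗ₜ[Lb] (1 : O) :=
    ((inl Lb F.R O).map_det _).symm
  rw [e1, e2, Algebra.TensorProduct.tmul_mul_tmul, mul_one, one_mul]

theorem rho_detm (hX : IsMulMat Lb X) (hXm : IsMulMat Lb Xm) (J : Fin F.rm → (Fin D.m → Fin D.n)) :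
    rho F hX hXm (F.P.Mm.submatrix id J).det = (F.P.Mm.submatrix id J).det ⊗ₜ[Lb] Xm.det := by
  have h := (isGTrans_rho F hX hXm).hMm
  have h1 : (F.P.Mm.submatrix id J).map (rho F hX hXm : F.R →+* F.R ⊗[Lb] O) =
      (Xm.map (inr Lb F.R O)).transpose * (F.P.Mm.submatrix id J).map (inl Lb F.R O) := by
    ext b i
    exact (congrFun (congrFun h b) (J i)).trans (by rw [Matrix.mul_apply, Matrix.mul_apply]; rfl)
  have h2 : rho F hX hXm (F.P.Mm.submatrix id J).det =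
      ((F.P.Mm.submatrix id J).map (rho F hX hXm : F.R →+* F.R ⊗[Lb] O)).det :=
    (rho F hX hXm : F.R →+* F.R ⊗[Lb] O).map_det _
  rw [h2, h1, Matrix.det_mul, Matrix.det_transpose]
  have e1 : (Xm.map (inr Lb F.R O)).det = (1 : F.R) ⊗ₜ[Lb] Xm.det := ((inr Lb F.R O).map_det Xm).symm
  have e2 : ((F.P.Mm.submatrix id J).map (inl Lb F.R O)).det = (F.P.Mm.submatrix id J).det ⊗ₜ[Lb] (1 : O) :=
    ((inl Lb F.R O).map_det _).symm
  rw [e1, e2, Algebra.TensorProduct.tmul_mul_tmul, mul_one, one_mul]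

/-- **semi-invariance** -/
theorem rho_sIJ (hX : IsMulMat Lb X) (hXm : IsMulMat Lb Xm) (I : Fin F.r1 → Fin D.n)
    (J : Fin F.rm → (Fin D.m → Fin D.n)) :
    rho F hX hXm (sIJ F I J) = sIJ F I J ⊗ₜ[Lb] chi F X Xm := by
  rw [sIJ, map_mul, rho_det, rho_detm, Algebra.TensorProduct.tmul_mul_tmul, chi]

/-- **`ρ` commutes with the arrows**: `σ, τ : F.R → R1`, `β : B → R1`, `τ = β • σ`; if `ρ1` extends `ρ` along `σ` and is
trivial on `B`, then it extends `ρ` along `τ`. -/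
theorem rho_tau (hX : IsMulMat Lb X) (hXm : IsMulMat Lb Xm) {R1 : Type u} [CommRing R1] [Algebra Lb R1]
    (σ τ : F.R →ₐ[Lb] R1) (β : B →+* R1) (h : IsTrans β (F.P.map (σ : F.R →+* R1)) (F.P.map (τ : F.R →+* R1)))
    (ρ1 : R1 →+* R1 ⊗[Lb] O) (hβ : ∀ b, ρ1 (β b) = β b ⊗ₜ[Lb] (1 : O))
    (hσ : ∀ r, ρ1 (σ r) = Algebra.TensorProduct.map σ (AlgHom.id Lb O) (rho F hX hXm r)) (r : F.R) :
    ρ1 (τ r) = Algebra.TensorProduct.map τ (AlgHom.id Lb O) (rho F hX hXm r) := by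
  have key : ∀ (φ : F.R →ₐ[Lb] R1), IsGTrans (X.map (inr Lb R1 O)).transpose (Xm.map (inr Lb R1 O)).transpose
      ((F.P.map (φ : F.R →+* R1)).map (inl Lb R1 O))
      (F.P.map (((Algebra.TensorProduct.map φ (AlgHom.id Lb O) : F.R ⊗[Lb] O →ₐ[Lb] R1 ⊗[Lb] O) :
        F.R ⊗[Lb] O →+* R1 ⊗[Lb] O).comp (rho F hX hXm : F.R →+* F.R ⊗[Lb] O))) := by
    intro φ
    have m := isGTrans_points F hX hXm ((Algebra.TensorProduct.map φ (AlgHom.id Lb O) :
      F.R ⊗[Lb] O →ₐ[Lb] R1 ⊗[Lb] O) : F.R ⊗[Lb] O →+* R1 ⊗[Lb] O)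
    have a1 : ((Algebra.TensorProduct.map φ (AlgHom.id Lb O) :
        F.R ⊗[Lb] O →ₐ[Lb] R1 ⊗[Lb] O) : F.R ⊗[Lb] O →+* R1 ⊗[Lb] O).comp (inl Lb F.R O) =
        (inl Lb R1 O).comp (φ : F.R →+* R1) := by
      ext r
      change Algebra.TensorProduct.map φ (AlgHom.id Lb O) (r ⊗ₜ[Lb] (1 : O)) = φ r ⊗ₜ[Lb] (1 : O)
      rw [Algebra.TensorProduct.map_tmul, AlgHom.id_apply]
    have a2 : ((Algebra.TensorProduct.map φ (AlgHom.id Lb O) :
        F.R ⊗[Lb] O →ₐ[Lb] R1 ⊗[Lb] O) : F.R ⊗[Lb] O →+* R1 ⊗[Lb] O).comp (inr Lb F.R O) = inr Lb R1 O := by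
      ext o
      change Algebra.TensorProduct.map φ (AlgHom.id Lb O) ((1 : F.R) ⊗ₜ[Lb] o) = (1 : R1) ⊗ₜ[Lb] o
      rw [Algebra.TensorProduct.map_tmul, map_one, AlgHom.id_apply]
    rw [a1, a2] at m
    exact m
  have h1 := IsTrans.map h ρ1
  have h2 := IsTrans.map h (inl Lb R1 O)
  have e1 : ρ1.comp β = (inl Lb R1 O).comp β := RingHom.ext hβ
  have e2 : ρ1.comp (σ : F.R →+* R1) = ((Algebra.TensorProduct.map σ (AlgHom.id Lb O) :
      F.R ⊗[Lb] O →ₐ[Lb] R1 ⊗[Lb] O) : F.R ⊗[Lb] O →+* R1 ⊗[Lb] O).comp (rho F hX hXm : F.R →+* F.R ⊗[Lb] O) :=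
    RingHom.ext hσ
  rw [map_map, map_map, e1, e2] at h1
  have h3 := IsTrans.gtrans (isUnit_map_transpose hX.isUnit (inr Lb R1 O)) h2 (key σ) (key τ)
  have h4 := IsTrans.unique h1 h3
  exact RingHom.congr_fun (hom_ext F h4) r

section Hopf

variable {O' : Type u} [CommRing O'] [HopfAlgebra Lb O'] {X' : Matrix (Fin F.r1) (Fin F.r1) O'}
  {Xm' : Matrix (Fin F.rm) (Fin F.rm) O'}

/-- **the comodule algebra** `F.R` (83's `CoAlg`) -/
def coAlg (hX : IsMulMat Lb X') (hXm : IsMulMat Lb Xm') : K83.CoAlg Lb O' F.R where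
  ρ := rho F hX hXm
  coassoc r := rho_coassoc F hX hXm r
  counit r := rho_counit F hX hXm r

end Hopf

end Groth.Agent.ResProp.EF.K62
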