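import Groth.Agent.ResProp.EF.K62.Rho
import Groth.Agent.ResProp.EF.K819.N4s
import Groth.Agent.ResProp.EF.K786.N4

/-!
# The action of `O`-points on the points of `F.R`; arrows are equivariant; the coaction on the ring of arrows

`pAct w h = (w, h) ∘ ρ` for `w : F.R → T`, `h : O → T`.
-/

set_option autoImplicit false
universe u

open Groth.Agent.Grpsch.AffGrpd Groth.Agent.ResProp.EF.K412 TensorProduct

noncomputable section

namespace Groth.Agent.ResProp.EF.K62

variable {A B : Type u} [CommRing A] [CommRing B] {Lb : Type u} [CommRing Lb] [Algebra Lb A] {G : RGrpd A B}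
variable {D : Gen Lb G} {k : Type u} [Field k] {x : A →+* k} (F : FrRing D x)
variable {O : Type u} [CommRing O] [Bialgebra Lb O] {X : Matrix (Fin F.r1) (Fin F.r1) O}
  {Xm : Matrix (Fin F.rm) (Fin F.rm) O} (hX : IsMulMat Lb X) (hXm : IsMulMat Lb Xm)

theorem sIJ_eq (I : Fin F.r1 → Fin D.n) (J : Fin F.rm → (Fin D.m → Fin D.n)) : sIJ F I J = K819.sIJ F (I, J) := rfl

theorem rho_sIJ' (z : (Fin F.r1 → Fin D.n) × (Fin F.rm → (Fin D.m → Fin D.n))) :
    rho F hX hXm (K819.sIJ F z) = K819.sIJ F z ⊗ₜ[Lb] chi F X Xm := rho_sIJ F hX hXm z.1 z.2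

section Act

variable {T : Type u} [CommRing T] [Algebra Lb T]

/-- the point `h • w` -/
def pAct (w : F.R →ₐ[Lb] T) (h : O →ₐ[Lb] T) : F.R →ₐ[Lb] T :=
  (Algebra.TensorProduct.productMap w h).comp (rho F hX hXm)

theorem pAct_apply (w : F.R →ₐ[Lb] T) (h : O →ₐ[Lb] T) (r : F.R) :
    pAct F hX hXm w h r = Algebra.TensorProduct.productMap w h (rho F hX hXm r) := rfl

theorem pAct_a (w : F.R →ₐ[Lb] T) (h : O →ₐ[Lb] T) (a : A) : pAct F hX hXm w h (F.P.a a) = w (F.P.a a) := by
  rw [pAct_apply, rho_a, Algebra.TensorProduct.productMap_apply_tmul, map_one, mul_one]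

theorem isGTrans_pAct (w : F.R →ₐ[Lb] T) (h : O →ₐ[Lb] T) :
    IsGTrans (X.map (h : O →+* T)).transpose (Xm.map (h : O →+* T)).transpose (F.P.map (w : F.R →+* T))
      (F.P.map (pAct F hX hXm w h : F.R →+* T)) := by
  have m := isGTrans_points F hX hXm ((Algebra.TensorProduct.productMap w h : F.R ⊗[Lb] O →ₐ[Lb] T) :
    F.R ⊗[Lb] O →+* T)
  have a1 : ((Algebra.TensorProduct.productMap w h : F.R ⊗[Lb] O →ₐ[Lb] T) : F.R ⊗[Lb] O →+* T).comp
      (inl Lb F.R O) = (w : F.R →+* T) := by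
    ext r
    change Algebra.TensorProduct.productMap w h (r ⊗ₜ[Lb] (1 : O)) = w r
    rw [Algebra.TensorProduct.productMap_apply_tmul, map_one, mul_one]
  have a2 : ((Algebra.TensorProduct.productMap w h : F.R ⊗[Lb] O →ₐ[Lb] T) : F.R ⊗[Lb] O →+* T).comp
      (inr Lb F.R O) = (h : O →+* T) := by
    ext r
    change Algebra.TensorProduct.productMap w h ((1 : F.R) ⊗ₜ[Lb] r) = h r
    rw [Algebra.TensorProduct.productMap_apply_tmul, map_one, one_mul]
  rw [a1, a2] at m
  exact m

theorem pAct_unique (w : F.R →ₐ[Lb] T) (h : O →ₐ[Lb] T) (ψ : F.R →+* T)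
    (hψ : IsGTrans (X.map (h : O →+* T)).transpose (Xm.map (h : O →+* T)).transpose (F.P.map (w : F.R →+* T))
      (F.P.map ψ)) : ψ = (pAct F hX hXm w h : F.R →+* T) :=
  hom_ext F (IsGTrans.unique (isUnit_map_transpose hX.isUnit _) hψ (isGTrans_pAct F hX hXm w h))

theorem pAct_sIJ (w : F.R →ₐ[Lb] T) (h : O →ₐ[Lb] T)
    (z : (Fin F.r1 → Fin D.n) × (Fin F.rm → (Fin D.m → Fin D.n))) :
    pAct F hX hXm w h (K819.sIJ F z) = w (K819.sIJ F z) * h (chi F X Xm) := by
  rw [pAct_apply, rho_sIJ', Algebra.TensorProduct.productMap_apply_tmul]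

/-- **the open set `W'` is stable** -/
theorem span_pAct (w : F.R →ₐ[Lb] T) (h : O →ₐ[Lb] T) :
    Ideal.span (Set.range fun z => pAct F hX hXm w h (K819.sIJ F z)) =
      Ideal.span (Set.range fun z => w (K819.sIJ F z)) := by
  have hu : IsUnit (h (chi F X Xm)) := (isUnit_chi F hX hXm).map h
  apply le_antisymm
  · rw [Ideal.span_le]
    rintro _ ⟨z, rfl⟩
    rw [SetLike.mem_coe]
    dsimp only
    rw [pAct_sIJ]
    exact Ideal.mul_mem_right _ _ (Ideal.subset_span ⟨z, rfl⟩)
  · rw [Ideal.span_le]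
    rintro _ ⟨z, rfl⟩
    rw [SetLike.mem_coe]
    have : w (K819.sIJ F z) = pAct F hX hXm w h (K819.sIJ F z) * ((hu.unit⁻¹ : Tˣ) : T) := by
      rw [pAct_sIJ, mul_assoc, IsUnit.mul_val_inv, mul_one]
    dsimp only
    rw [this]
    exact Ideal.mul_mem_right _ _ (Ideal.subset_span ⟨z, rfl⟩)

/-- functoriality of the action -/
theorem comp_pAct {T' : Type u} [CommRing T'] [Algebra Lb T'] (f : T →ₐ[Lb] T') (w : F.R →ₐ[Lb] T) (h : O →ₐ[Lb] T) :
    f.comp (pAct F hX hXm w h) = pAct F hX hXm (f.comp w) (f.comp h) := by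
  have : f.comp (Algebra.TensorProduct.productMap w h) = Algebra.TensorProduct.productMap (f.comp w) (f.comp h) := by
    refine Algebra.TensorProduct.ext' fun r o => ?_
    rw [AlgHom.comp_apply, Algebra.TensorProduct.productMap_apply_tmul, map_mul,
      Algebra.TensorProduct.productMap_apply_tmul]
    rfl
  rw [pAct, ← AlgHom.comp_assoc, this]
  rfl

/-- the unit acts trivially -/
theorem pAct_counit (w : F.R →ₐ[Lb] T) :
    pAct F hX hXm w ((Algebra.ofId Lb T).comp (Bialgebra.counitAlgHom Lb O)) = w := by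
  ext r
  have h := congrArg (Algebra.TensorProduct.productMap w (Algebra.ofId Lb T)) (rho_counit F hX hXm r)
  rw [Algebra.TensorProduct.productMap_apply_tmul, map_one, mul_one] at h
  refine Eq.trans ?_ h
  rw [pAct_apply]
  generalize rho F hX hXm r = z
  induction z using TensorProduct.induction_on with
  | zero => simp
  | tmul a b => simp
  | add a b ha hb => rw [map_add, ha, hb, map_add, map_add]

/-- the action is multiplicative: `h' • (h • w) = (h * h') • w` -/
theorem pAct_pAct (w : F.R →ₐ[Lb] T) (h h' : O →ₐ[Lb] T) :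
    pAct F hX hXm (pAct F hX hXm w h) h' =
      pAct F hX hXm w ((Algebra.TensorProduct.productMap h h').comp (Bialgebra.comulAlgHom Lb O)) := by
  ext r
  have e := congrArg (Algebra.TensorProduct.productMap w (Algebra.TensorProduct.productMap h h'))
    (rho_coassoc F hX hXm r)
  have e1 : ∀ z : F.R ⊗[Lb] O, Algebra.TensorProduct.productMap w (Algebra.TensorProduct.productMap h h')
      (Algebra.TensorProduct.assoc Lb Lb Lb F.R O O
        (Algebra.TensorProduct.map (rho F hX hXm) (AlgHom.id Lb O) z)) =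
      Algebra.TensorProduct.productMap (pAct F hX hXm w h) h' z := by
    intro z
    induction z using TensorProduct.induction_on with
    | zero => simp
    | tmul a b =>
      rw [Algebra.TensorProduct.map_tmul, Algebra.TensorProduct.productMap_apply_tmul, pAct_apply, AlgHom.id_apply]
      generalize rho F hX hXm a = y
      induction y using TensorProduct.induction_on with
      | zero => simp
      | tmul c d => simp [mul_assoc]
      | add c d hc hd => rw [TensorProduct.add_tmul, map_add, map_add, hc, hd, map_add, add_mul]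
    | add a b ha hb => rw [map_add, map_add, map_add, ha, hb, map_add]
  have e2 : ∀ z : F.R ⊗[Lb] O, Algebra.TensorProduct.productMap w (Algebra.TensorProduct.productMap h h')
      (Algebra.TensorProduct.map (AlgHom.id Lb F.R) (Bialgebra.comulAlgHom Lb O) z) =
      Algebra.TensorProduct.productMap w
        ((Algebra.TensorProduct.productMap h h').comp (Bialgebra.comulAlgHom Lb O)) z := by
    intro z
    induction z using TensorProduct.induction_on with
    | zero => simp
    | tmul a b => simp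
    | add a b ha hb => rw [map_add, map_add, ha, hb, map_add]
  rw [e1, e2] at e
  exact e

/-- **arrows are equivariant**: if `γ` is an arrow from `w` to `w'`, it is an arrow from `h • w` to `h • w'` -/
theorem isTrans_pAct {γ : B →+* T} {w w' : F.R →ₐ[Lb] T}
    (hγ : IsTrans γ (F.P.map (w : F.R →+* T)) (F.P.map (w' : F.R →+* T))) (h : O →ₐ[Lb] T) :
    IsTrans γ (F.P.map (pAct F hX hXm w h : F.R →+* T)) (F.P.map (pAct F hX hXm w' h : F.R →+* T)) :=
  IsTrans.gtrans (isUnit_map_transpose hX.isUnit (h : O →+* T)) hγ (isGTrans_pAct F hX hXm w h)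
    (isGTrans_pAct F hX hXm w' h)

end Act

section Unique

variable {F}

/-- theta is invariant under arrows -/
theorem thetaEq_of_isTrans {T : Type u} [CommRing T] {γ : B →+* T} {w w' : F.R →+* T}
    (hγ : IsTrans γ (F.P.map w) (F.P.map w')) : ThetaEq (F.P.map w) (F.P.map w') := by
  obtain ⟨ψ, h1, h2⟩ := F.act w γ hγ.src
  have : F.P.map ψ = F.P.map w' := IsTrans.unique h1 hγ
  rwa [this] at h2

/-- **the arrow between two points of `W'` is unique** -/
theorem arrow_unique (hs : G.s.Flat) {T : Type u} [CommRing T] {γ γ' : B →+* T} {w w' : F.R →+* T}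
    (hw : Ideal.span (Set.range fun z => w (K819.sIJ F z)) = ⊤) (hγ : IsTrans γ (F.P.map w) (F.P.map w'))
    (hγ' : IsTrans γ' (F.P.map w) (F.P.map w')) : γ = γ' := by
  have h1 : IsFr (F.P.map w) := K819.isFr_of_span w hw
  obtain ⟨h2, h3⟩ := K786.n4' D F.r1 F.rm hs (F.P.map w) (F.P.map w') γ h1 hγ
  have h4 : IsFr (F.P.map w') := F.ep w' h2 h3
  exact (K786.n4 D F.r1 F.rm hs (F.P.map w) (F.P.map w') h1 h4 (thetaEq_of_isTrans hγ)).unique hγ hγ'

variable (F)

/-- **equi** (the form of `RCover.equi`): `γ` an arrow `w → w'`, `γ'` an arrow `h • w → h • w'`, `w` in `W'` ==> `γ' = γ` -/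
theorem arrow_equi (hs : G.s.Flat) {T : Type u} [CommRing T] [Algebra Lb T] {γ γ' : B →+* T} {w w' : F.R →ₐ[Lb] T}
    (h : O →ₐ[Lb] T) (hw : Ideal.span (Set.range fun z => w (K819.sIJ F z)) = ⊤)
    (hγ : IsTrans γ (F.P.map (w : F.R →+* T)) (F.P.map (w' : F.R →+* T)))
    (hγ' : IsTrans γ' (F.P.map (pAct F hX hXm w h : F.R →+* T)) (F.P.map (pAct F hX hXm w' h : F.R →+* T))) :
    γ' = γ :=
  arrow_unique hs (w := (pAct F hX hXm w h : F.R →+* T)) ((span_pAct F hX hXm w h).trans hw) hγ'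
    (isTrans_pAct F hX hXm hγ h)

end Unique

section Arr

variable {F} {R1 : Type u} [CommRing R1] (a : K819.Arr F R1)

/-- `R1` as an `Lb`-algebra -/
@[reducible] def algR1 : Algebra Lb R1 := (a.s.comp (algebraMap Lb F.R)).toAlgebra

variable [Algebra Lb R1] (hR1 : algebraMap Lb R1 = a.s.comp (algebraMap Lb F.R))

/-- `s` as an algebra map -/
def sA : F.R →ₐ[Lb] R1 := { a.s with commutes' := fun l => (RingHom.congr_fun hR1 l).symm }

include hR1 in
theorem t_commutes (l : Lb) : a.t (algebraMap Lb F.R l) = algebraMap Lb R1 l := by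
  have h1 : a.t (F.P.a (algebraMap Lb A l)) = a.g (G.t (algebraMap Lb A l)) :=
    (RingHom.congr_fun a.tr.tgt (algebraMap Lb A l)).symm
  have h2 : a.g (G.s (algebraMap Lb A l)) = a.s (F.P.a (algebraMap Lb A l)) := RingHom.congr_fun a.h _
  have h3 : algebraMap Lb R1 l = a.s (F.P.a (algebraMap Lb A l)) := RingHom.congr_fun hR1 l
  rw [h3, ← h2, D.st l, ← h1]
  rfl

/-- `t` as an algebra map -/
def tA : F.R →ₐ[Lb] R1 := { a.t with commutes' := fun l => t_commutes a hR1 l }

/-- **the coaction on the ring of arrows**: exists and is unique -/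
theorem exists_rho1 : ∃! ρ1 : R1 →+* R1 ⊗[Lb] O, (∀ b, ρ1 (a.g b) = a.g b ⊗ₜ[Lb] (1 : O)) ∧
    (∀ r, ρ1 (a.s r) = Algebra.TensorProduct.map (sA a hR1) (AlgHom.id Lb O) (rho F hX hXm r)) := by
  obtain ⟨r, ⟨h1, h2⟩, h3⟩ := a.desc
    (((Algebra.TensorProduct.map (sA a hR1) (AlgHom.id Lb O) : F.R ⊗[Lb] O →ₐ[Lb] R1 ⊗[Lb] O) :
      F.R ⊗[Lb] O →+* R1 ⊗[Lb] O).comp (rho F hX hXm : F.R →+* F.R ⊗[Lb] O))
    ((inl Lb R1 O).comp a.g) (by
      ext z
      have e : rho F hX hXm (F.P.a z) = F.P.a z ⊗ₜ[Lb] (1 : O) := rho_a F hX hXm z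
      change a.g (G.s z) ⊗ₜ[Lb] (1 : O) =
        Algebra.TensorProduct.map (sA a hR1) (AlgHom.id Lb O) (rho F hX hXm (F.P.a z))
      rw [e, Algebra.TensorProduct.map_tmul, AlgHom.id_apply]
      congr 1
      exact RingHom.congr_fun a.h z)
  refine ⟨r, ⟨fun b => RingHom.congr_fun h2 b, fun z => RingHom.congr_fun h1 z⟩, ?_⟩
  rintro r' ⟨h4, h5⟩
  exact h3 r' ⟨RingHom.ext h5, RingHom.ext h4⟩

/-- the coaction on the ring of arrows -/
def rho1' : R1 →+* R1 ⊗[Lb] O := (exists_rho1 hX hXm a hR1).choose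

theorem rho1'_g (b : B) : rho1' hX hXm a hR1 (a.g b) = a.g b ⊗ₜ[Lb] (1 : O) :=
  (exists_rho1 hX hXm a hR1).choose_spec.1.1 b

theorem rho1'_s (r : F.R) : rho1' hX hXm a hR1 (a.s r) =
    Algebra.TensorProduct.map (sA a hR1) (AlgHom.id Lb O) (rho F hX hXm r) :=
  (exists_rho1 hX hXm a hR1).choose_spec.1.2 r

/-- the coaction on the ring of arrows -/
def rho1 : R1 →ₐ[Lb] R1 ⊗[Lb] O :=
  { rho1' hX hXm a hR1 with
    commutes' := fun l => by
      have h1 : algebraMap Lb R1 l = a.s (algebraMap Lb F.R l) := RingHom.congr_fun hR1 l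
      have h2 := rho1'_s hX hXm a hR1 (algebraMap Lb F.R l)
      rw [← h1, AlgHom.commutes, AlgHom.commutes] at h2
      exact h2 }

theorem rho1_g (b : B) : rho1 hX hXm a hR1 (a.g b) = a.g b ⊗ₜ[Lb] (1 : O) := rho1'_g hX hXm a hR1 b

theorem rho1_s (r : F.R) : rho1 hX hXm a hR1 (a.s r) =
    Algebra.TensorProduct.map (sA a hR1) (AlgHom.id Lb O) (rho F hX hXm r) := rho1'_s hX hXm a hR1 r

theorem rho1_t (r : F.R) : rho1 hX hXm a hR1 (a.t r) =
    Algebra.TensorProduct.map (tA a hR1) (AlgHom.id Lb O) (rho F hX hXm r) :=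
  rho_tau F hX hXm (sA a hR1) (tA a hR1) a.g a.tr (rho1' hX hXm a hR1) (rho1'_g hX hXm a hR1)
    (rho1'_s hX hXm a hR1) r

/-- ring maps out of `R1` -/
theorem arr_hom_ext {T : Type u} [CommRing T] {f f' : R1 →+* T} (hs : ∀ r, f (a.s r) = f' (a.s r))
    (hg : ∀ b, f (a.g b) = f' (a.g b)) : f = f' := by
  have e : (f.comp a.g).comp G.s = (f.comp a.s).comp F.P.a := by
    rw [RingHom.comp_assoc, a.h, RingHom.comp_assoc]
  exact (a.desc (f.comp a.s) (f.comp a.g) e).unique ⟨rfl, rfl⟩
    ⟨RingHom.ext fun r => (hs r).symm, RingHom.ext fun b => (hg b).symm⟩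

theorem rho1_coassoc (z : R1) :
    Algebra.TensorProduct.assoc Lb Lb Lb R1 O O
      (Algebra.TensorProduct.map (rho1 hX hXm a hR1) (AlgHom.id Lb O) (rho1 hX hXm a hR1 z)) =
    Algebra.TensorProduct.map (AlgHom.id Lb R1) (Bialgebra.comulAlgHom Lb O) (rho1 hX hXm a hR1 z) := by
  let f : R1 →ₐ[Lb] R1 ⊗[Lb] (O ⊗[Lb] O) :=
    ((Algebra.TensorProduct.assoc Lb Lb Lb R1 O O : _ →ₐ[Lb] _).comp
      (Algebra.TensorProduct.map (rho1 hX hXm a hR1) (AlgHom.id Lb O))).comp (rho1 hX hXm a hR1)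
  let f' : R1 →ₐ[Lb] R1 ⊗[Lb] (O ⊗[Lb] O) :=
    (Algebra.TensorProduct.map (AlgHom.id Lb R1) (Bialgebra.comulAlgHom Lb O)).comp (rho1 hX hXm a hR1)
  have key : (f : R1 →+* R1 ⊗[Lb] (O ⊗[Lb] O)) = (f' : R1 →+* R1 ⊗[Lb] (O ⊗[Lb] O)) := by
    refine arr_hom_ext a (fun r => ?_) (fun b => ?_)
    · change Algebra.TensorProduct.assoc Lb Lb Lb R1 O O
        (Algebra.TensorProduct.map (rho1 hX hXm a hR1) (AlgHom.id Lb O) (rho1 hX hXm a hR1 (a.s r))) =
        Algebra.TensorProduct.map (AlgHom.id Lb R1) (Bialgebra.comulAlgHom Lb O) (rho1 hX hXm a hR1 (a.s r))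
      rw [rho1_s]
      have e := congrArg (Algebra.TensorProduct.map (sA a hR1) (AlgHom.id Lb (O ⊗[Lb] O))) (rho_coassoc F hX hXm r)
      have e1 : ∀ y : F.R ⊗[Lb] O, Algebra.TensorProduct.map (AlgHom.id Lb R1) (Bialgebra.comulAlgHom Lb O)
          (Algebra.TensorProduct.map (sA a hR1) (AlgHom.id Lb O) y) =
          Algebra.TensorProduct.map (sA a hR1) (AlgHom.id Lb (O ⊗[Lb] O))
            (Algebra.TensorProduct.map (AlgHom.id Lb F.R) (Bialgebra.comulAlgHom Lb O) y) := by
        intro y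
        induction y using TensorProduct.induction_on with
        | zero => simp
        | tmul c d => simp
        | add c d hc hd => rw [map_add, map_add, hc, hd, map_add, map_add]
      have e2 : ∀ y : F.R ⊗[Lb] O, Algebra.TensorProduct.assoc Lb Lb Lb R1 O O
          (Algebra.TensorProduct.map (rho1 hX hXm a hR1) (AlgHom.id Lb O)
            (Algebra.TensorProduct.map (sA a hR1) (AlgHom.id Lb O) y)) =
          Algebra.TensorProduct.map (sA a hR1) (AlgHom.id Lb (O ⊗[Lb] O))
            (Algebra.TensorProduct.assoc Lb Lb Lb F.R O O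
              (Algebra.TensorProduct.map (rho F hX hXm) (AlgHom.id Lb O) y)) := by
        intro y
        induction y using TensorProduct.induction_on with
        | zero => simp
        | tmul c d =>
          rw [Algebra.TensorProduct.map_tmul, Algebra.TensorProduct.map_tmul, Algebra.TensorProduct.map_tmul]
          change Algebra.TensorProduct.assoc Lb Lb Lb R1 O O ((rho1 hX hXm a hR1 (a.s c)) ⊗ₜ[Lb] d) =
            Algebra.TensorProduct.map (sA a hR1) (AlgHom.id Lb (O ⊗[Lb] O))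
              (Algebra.TensorProduct.assoc Lb Lb Lb F.R O O ((rho F hX hXm c) ⊗ₜ[Lb] d))
          rw [rho1_s]
          generalize rho F hX hXm c = y
          induction y using TensorProduct.induction_on with
          | zero => simp
          | tmul c d => simp
          | add c d hc hd => rw [map_add, TensorProduct.add_tmul, map_add, hc, hd, TensorProduct.add_tmul, map_add, map_add]
        | add c d hc hd => rw [map_add, map_add, map_add, hc, hd, map_add, map_add, map_add]
      rw [e1, e2]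
      exact e
    · change Algebra.TensorProduct.assoc Lb Lb Lb R1 O O
        (Algebra.TensorProduct.map (rho1 hX hXm a hR1) (AlgHom.id Lb O) (rho1 hX hXm a hR1 (a.g b))) =
        Algebra.TensorProduct.map (AlgHom.id Lb R1) (Bialgebra.comulAlgHom Lb O) (rho1 hX hXm a hR1 (a.g b))
      rw [rho1_g, Algebra.TensorProduct.map_tmul, AlgHom.id_apply, rho1_g, Algebra.TensorProduct.assoc_tmul,
        Algebra.TensorProduct.map_tmul, map_one, AlgHom.id_apply]
      rfl
  exact RingHom.congr_fun key z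

theorem rho1_counit (z : R1) :
    Algebra.TensorProduct.map (AlgHom.id Lb R1) (Bialgebra.counitAlgHom Lb O) (rho1 hX hXm a hR1 z) =
      z ⊗ₜ[Lb] (1 : Lb) := by
  let f : R1 →ₐ[Lb] R1 ⊗[Lb] Lb :=
    (Algebra.TensorProduct.map (AlgHom.id Lb R1) (Bialgebra.counitAlgHom Lb O)).comp (rho1 hX hXm a hR1)
  have key : (f : R1 →+* R1 ⊗[Lb] Lb) = inl Lb R1 Lb := by
    refine arr_hom_ext a (fun r => ?_) (fun b => ?_)
    · change Algebra.TensorProduct.map (AlgHom.id Lb R1) (Bialgebra.counitAlgHom Lb O) (rho1 hX hXm a hR1 (a.s r)) =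
        a.s r ⊗ₜ[Lb] (1 : Lb)
      rw [rho1_s]
      have e := congrArg (Algebra.TensorProduct.map (sA a hR1) (AlgHom.id Lb Lb)) (rho_counit F hX hXm r)
      rw [Algebra.TensorProduct.map_tmul, map_one] at e
      refine Eq.trans ?_ e
      generalize rho F hX hXm r = y
      induction y using TensorProduct.induction_on with
      | zero => simp
      | tmul c d => simp
      | add c d hc hd => rw [map_add, map_add, hc, hd, map_add, map_add]
    · change Algebra.TensorProduct.map (AlgHom.id Lb R1) (Bialgebra.counitAlgHom Lb O) (rho1 hX hXm a hR1 (a.g b)) =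
        a.g b ⊗ₜ[Lb] (1 : Lb)
      rw [rho1_g, Algebra.TensorProduct.map_tmul, map_one, AlgHom.id_apply]
  exact RingHom.congr_fun key z

end Arr

end Groth.Agent.ResProp.EF.K62
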