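import Groth.Agent.ResProp.EF.K62.GrN
import Groth.Agent.ResProp.EF.K774.HbTot

/-!
# The assembly of the kernel datum (AD4, helper62)

`stmtAsm : K303.StmtAsm`, from K303 (terms, chain), K396 (numbers), K661, K774 (purity), K787.
-/

set_option autoImplicit false
set_option linter.dupNamespace false
set_option backward.isDefEq.respectTransparency false

open CategoryTheory Opposite TensorProduct

noncomputable section

namespace Groth.Agent.ResProp.EF.K62.GrN

open K784.BC K784.PM K741.RP EF56 K294 Grp Arch K980 K980.BC K959 K959.CoBC K276 K303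

universe u v

variable {k : Type u} [CommRing k] {A : NFᵒᵖ ⥤ CommRingCat.{u}} [GRF k A] {x : PrimeSpectrum (A.obj (op ⟨0⟩))}
  {c : CoverDatum k A x} {o : ALGOut c} {s : Desc A o.X.K} (e : ESide o s)

/-- `WF e n m → Tot⟨0⟩` -/
def vN (n : ℤ) (m : ℕ) : WF e n m →ₗ[k] e.Tot.M.obj ⟨0⟩ :=
  (toK (hk A k ⟨0⟩ 0) (bc (vx A ⟨0⟩ 0) : e.edesc.K →ₛₗ[vx A ⟨0⟩ 0] BC (vx A ⟨0⟩ 0) e.edesc.K)) ∘ₗ
    (WF e n m).subtype.restrictScalars k

theorem vN_apply (n : ℤ) (m : ℕ) (w : WF e n m) : vN e n m w = emb0 e.edesc (w : e.I → o.X.K) := rfl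

theorem piR_surjective : Function.Surjective (piR o) := o.iD.surjective.comp o.X.π_surj

theorem pure_KK (p : ℕ) [IsLb p k] (hs : Glued o s) (n : ℤ) (m : ℕ)
    (h : Stab e.Tot (mapW e.edesc (WF e n m))) (h' : Stab e.Tot (mapW e.edesc (WF e n (m + 1))))
    (hle : mapW e.edesc (WF e n (m + 1)) ≤ mapW e.edesc (WF e n m)) :
    Nonempty (Pure c e.ι (piR o) (grS e.Tot h h' hle)) := by
  have := IsLb.dom (p := p) (k := k)
  have := IsLb.char0 (p := p) (k := k)
  obtain ⟨r, hr⟩ := K787.Adm.exists_linear_retr e.adm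
  refine K774.pure_gr c e.ι (piR o) r (fun z => LinearMap.congr_fun hr z) e.Tot h h' hle piR_surjective
    (fun q hq => K774.ha_Tot e n m q hq) (K774.hb_Tot e hs n m) (vN e n m) (fun w => ⟨w.1, w.2, rfl⟩) ?_ ?_
    ((pN e n m).restrictScalars k) (pN_surjective e n m) (fun q w => (pN e n m).map_smul q w) ?_ (coN e p n m) ?_ ?_
  · rintro _ ⟨w, hw, rfl⟩
    exact ⟨⟨w, hw⟩, rfl⟩
  · intro q w
    exact (emb0 e.edesc).map_smul q (w : e.I → o.X.K)
  · intro w
    refine (pN_eq_zero e n m w).trans ?_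
    constructor
    · intro hw
      exact ⟨_, hw, rfl⟩
    · rintro ⟨v, hv, hvw⟩
      have : v = (w : e.I → o.X.K) := (emb0 e.edesc).injective hvw
      exact this ▸ hv
  · intro w
    obtain ⟨z, hz1, hz2⟩ := compatN e p n m w
    refine ⟨z, ?_, hz2⟩
    refine Eq.trans ?_ (e.edesc.coact_bc (w : e.I → o.X.K)).symm
    have h1 : e.edesc.c.coact (w : e.I → o.X.K) = ((WF e n m).subtype.restrictScalars k).rTensor e.E.O z := hz1.symm
    rw [h1]
    exact LinearMap.rTensor_comp_apply _ _ _ _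
  · intro q y hy g
    exact hopfN e p n m q y hy g

end Groth.Agent.ResProp.EF.K62.GrN

namespace Groth.Agent.ResProp.EF.K62

open K303 K784.BC K784.PM K741.RP EF56 K294 Grp Arch K980 K980.BC K959 K959.CoBC

universe u

/-- **assembly** -/
theorem stmtAsm : K303.StmtAsm.{u} := by
  intro p k _ _ A _ x c o s hs e
  exact asm_of_small (K774.gfacts_of_glued hs) e fun n =>
    small_KK (K774.gfacts_of_glued hs) n fun m _ => Small.pure _ (GrN.pure_KK e p hs n m _ _ _)

end Groth.Agent.ResProp.EF.K62
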