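import Groth.Agent.ResProp.EF.K62.Asm
import Groth.Agent.ResProp.EF.K918.FinalESide

/-!
# The consumer (helper62)

`stmtCons : K980.StmtCons`, from `K918.stmtESide` and `K62.stmtAsm`.
-/

namespace Groth.Agent.ResProp.EF.K62

universe u

/-- **CONSUMER** -/
theorem stmtCons : K980.StmtCons.{u} := K303.stmtCons K918.stmtESide stmtAsm

/-- `StmtKernel` from the producer -/
theorem stmtKernel_of_prod (h : K980.StmtProd.{u}) : Arch.StmtKernel.{u} := K980.stmtKernel h stmtCons

end Groth.Agent.ResProp.EF.K62
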