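import Groth.Agent.ResProp.EF.K412.Defs
import Mathlib.RingTheory.Adjoin.Basic
import Mathlib.Algebra.Algebra.Subalgebra.Tower

/-!
# The algebra structures on the frame ring `F.R` (412's `FrRing`), ring maps out of it
-/

set_option autoImplicit false
universe u

open Groth.Agent.Grpsch.AffGrpd Groth.Agent.ResProp.EF.K412

namespace Groth.Agent.ResProp.EF.K62

variable {A B : Type u} [CommRing A] [CommRing B] {Lb : Type u} [CommRing Lb] [Algebra Lb A] {G : RGrpd A B}

section Pt

variable {D : Gen Lb G} {r1 rm : ℕ}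

theorem frPt_ext {K : Type u} [CommRing K] {P P' : FrPt D r1 rm K} (ha : P.a = P'.a) (hM : P.M = P'.M)
    (hMm : P.Mm = P'.Mm) (hmu : P.mu = P'.mu) : P = P' := by
  cases P
  cases P'
  cases ha
  cases hM
  cases hMm
  cases hmu
  rfl

theorem map_map {K K' K'' : Type u} [CommRing K] [CommRing K'] [CommRing K''] (f : K →+* K') (g : K' →+* K'')
    (P : FrPt D r1 rm K) : (P.map f).map g = P.map (g.comp f) := rfl

theorem map_id {K : Type u} [CommRing K] (P : FrPt D r1 rm K) : P.map (RingHom.id K) = P := rfl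

end Pt

variable {D : Gen Lb G} {k : Type u} [Field k] {x : A →+* k} (F : FrRing D x)

/-- `F.R` as an `A`-algebra -/
instance algA : Algebra A F.R := F.P.a.toAlgebra

/-- `F.R` as an `Lb`-algebra -/
instance algLb : Algebra Lb F.R := (F.P.a.comp (algebraMap Lb A)).toAlgebra

instance : IsScalarTower Lb A F.R := IsScalarTower.of_algebraMap_eq' rfl

theorem algebraMap_A : algebraMap A F.R = F.P.a := rfl

theorem algebraMap_Lb : algebraMap Lb F.R = F.P.a.comp (algebraMap Lb A) := rfl

/-- ring maps out of `F.R` are determined by the image of the universal point -/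
theorem hom_ext {T : Type u} [CommRing T] {f g : F.R →+* T} (h : F.P.map f = F.P.map g) : f = g := by
  refine RingHom.eq_of_eqOn_set_dense F.gen ?_
  have ha : f.comp F.P.a = g.comp F.P.a := congrArg FrPt.a h
  have hM : F.P.M.map f = F.P.M.map g := congrArg FrPt.M h
  have hMm : F.P.Mm.map f = F.P.Mm.map g := congrArg FrPt.Mm h
  have hmu : F.P.mu.map f = F.P.mu.map g := congrArg FrPt.mu h
  rintro z (((⟨a, rfl⟩ | ⟨p, rfl⟩) | ⟨p, rfl⟩) | ⟨p, rfl⟩)
  · exact RingHom.congr_fun ha a
  · exact congrFun (congrFun hM p.1) p.2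
  · exact congrFun (congrFun hMm p.1) p.2
  · exact congrFun (congrFun hmu p.1) p.2

end Groth.Agent.ResProp.EF.K62
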