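import Groth.Agent.ResProp.EF.K303.KCx
import Groth.Agent.ResProp.EF.K661.GluedOut
import Groth.Agent.ResProp.EF.K787.AdmRetr
import Groth.Agent.ResProp.EF.K774.HbTot

/-!
# The graded pieces in one degree (AD4, helper62)

`GN e n m` : the part of degree `n` of `I → gr^m`, `coN` : the coaction of `H` on it, `pN : WF e n m → GN e n m`,
`compatN`, `hopfN`.
-/

set_option autoImplicit false
set_option linter.dupNamespace false
set_option backward.isDefEq.respectTransparency false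

open CategoryTheory Opposite TensorProduct

noncomputable section

namespace Groth.Agent.ResProp.EF.K62.GrN

open K784.BC K784.PM K741.RP EF56 K294 Grp Arch K980 K980.BC K959 K959.CoBC K276 K303

universe u v

section Abs

variable {k : Type*} [CommRing k] {V U G : Type*} [AddCommGroup V] [Module k V] [AddCommGroup U] [Module k U]
  [AddCommGroup G] [Module k G] {OE OH : Type*} [AddCommGroup OE] [Module k OE] [Module.Flat k OE] [AddCommGroup OH]
  [Module k OH] {inc : U →ₗ[k] V} {mk : U →ₗ[k] G} {ι : OH →ₗ[k] OE} {cV : V → V ⊗[k] OE} {cH : G → G ⊗[k] OH}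

theorem equi_gr (hinc : Function.Injective inc) (hmk : Function.Surjective mk) (hι : Function.Injective (ι.lTensor G))
    (compat : ∀ y : U, ∃ z : U ⊗[k] OE, inc.rTensor OE z = cV (inc y) ∧ mk.rTensor OE z = ι.lTensor G (cH (mk y)))
    (p : V →ₗ[k] V) (q : U →ₗ[k] U) (r : G →ₗ[k] G) (hpq : ∀ y, inc (q y) = p (inc y))
    (hrq : ∀ y, mk (q y) = r (mk y)) (hp : ∀ v, cV (p v) = p.rTensor OE (cV v)) (g : G) :
    cH (r g) = r.rTensor OH (cH g) := by
  obtain ⟨y, rfl⟩ := hmk g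
  obtain ⟨z, hz1, hz2⟩ := compat y
  obtain ⟨w, hw1, hw2⟩ := compat (q y)
  have hinj : Function.Injective (inc.rTensor OE) := Module.Flat.rTensor_preserves_injective_linearMap _ hinc
  have h1 : w = q.rTensor OE z := by
    apply hinj
    rw [hw1, hpq, hp, ← hz1]
    exact (rTensor_square inc inc q p hpq z).symm
  apply hι
  rw [← hrq, ← hw2, h1]
  have h2 : mk.rTensor OE (q.rTensor OE z) = r.rTensor OE (mk.rTensor OE z) := rTensor_square mk mk q r hrq z
  rw [h2, hz2]
  change (r.rTensor OE ∘ₗ ι.lTensor G) _ = (ι.lTensor G ∘ₗ r.rTensor OH) _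
  rw [LinearMap.rTensor_comp_lTensor, LinearMap.lTensor_comp_rTensor]

end Abs

section Pr

variable {k : Type u} [CommRing k] {A : NFᵒᵖ ⥤ CommRingCat.{u}} [GRF k A] (X : OpCpx.{u} (A.obj (op ⟨0⟩)))

/-- `prz n` on `F m` -/
def prF (n : ℤ) (m : ℕ) : X.F m →ₗ[X.Q] X.F m := (X.prz n).restrict fun _ hv => prz_F X n m hv

theorem coe_prF (n : ℤ) (m : ℕ) (v : X.F m) : (prF X n m v : X.K) = X.prz n v := rfl

/-- `prz n` on `gr^m` -/
def prG (n : ℤ) (m : ℕ) : GrF X m →ₗ[X.Q] GrF X m :=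
  Submodule.mapQ _ _ (prF X n m) fun _ hv => prz_F X n (m + 1) hv

/-- `F m → gr^m` -/
def mkG (m : ℕ) : X.F m →ₗ[X.Q] GrF X m := ((X.F (m + 1)).comap (X.F m).subtype).mkQ

theorem mkG_surjective (m : ℕ) : Function.Surjective (mkG X m) := Submodule.mkQ_surjective _

theorem mkG_eq_zero (m : ℕ) (v : X.F m) : mkG X m v = 0 ↔ (v : X.K) ∈ X.F (m + 1) :=
  Submodule.Quotient.mk_eq_zero _

theorem prG_mkG (n : ℤ) (m : ℕ) (v : X.F m) : prG X n m (mkG X m v) = mkG X m (prF X n m v) := rfl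

theorem prG_prG (n : ℤ) (m : ℕ) (g : GrF X m) : prG X n m (prG X n m g) = prG X n m g := by
  obtain ⟨v, rfl⟩ := mkG_surjective X m g
  rw [prG_mkG, prG_mkG]
  congr 1
  exact Subtype.ext (prz_prz X n _)

end Pr

variable {k : Type u} [CommRing k] {A : NFᵒᵖ ⥤ CommRingCat.{u}} [GRF k A] {x : PrimeSpectrum (A.obj (op ⟨0⟩))}
  {c : CoverDatum k A x} {o : ALGOut c} {s : Desc A o.X.K} (e : ESide o s)

/-- `prz n` on `I → gr^m` -/
def prI (n : ℤ) (m : ℕ) : (e.I → GrF o.X.toOpCpx m) →ₗ[o.X.Q] (e.I → GrF o.X.toOpCpx m) :=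
  (prG o.X.toOpCpx n m).compLeft e.I

/-- the part of degree `n` of `I → gr^m` -/
def GN (n : ℤ) (m : ℕ) : Submodule o.X.Q (e.I → GrF o.X.toOpCpx m) := LinearMap.range (prI e n m)

theorem prI_prI (n : ℤ) (m : ℕ) (g : e.I → GrF o.X.toOpCpx m) : prI e n m (prI e n m g) = prI e n m g :=
  funext fun i => prG_prG o.X.toOpCpx n m (g i)

variable {e}

theorem mem_GN {n : ℤ} {m : ℕ} {g : e.I → GrF o.X.toOpCpx m} : g ∈ GN e n m ↔ prI e n m g = g :=
  ⟨fun ⟨h, hh⟩ => hh ▸ prI_prI e n m h, fun h => ⟨g, h⟩⟩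

variable (e)

/-- the projection to the part of degree `n` -/
def rI (n : ℤ) (m : ℕ) : (e.I → GrF o.X.toOpCpx m) →ₗ[o.X.Q] GN e n m := (prI e n m).rangeRestrict

/-- `I → F m`, degree `n` -/
def fW (n : ℤ) (m : ℕ) : (e.I → o.X.F m) →ₗ[o.X.Q] WF e n m :=
  (((o.X.F m).subtype.compLeft e.I) ∘ₗ ((prF o.X.toOpCpx n m).compLeft e.I)).codRestrict _ fun y => by
    rw [mem_WF]
    exact fun i => ⟨prz_F o.X.toOpCpx n m (y i).2, prz_prz o.X.toOpCpx n _⟩

theorem fW_apply (n : ℤ) (m : ℕ) (y : e.I → o.X.F m) (i : e.I) : (fW e n m y : e.I → o.X.K) i = o.X.prz n (y i) := rfl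

/-- `WF e n m → (I → F m)` -/
def gW (n : ℤ) (m : ℕ) : WF e n m →ₗ[o.X.Q] (e.I → o.X.F m) :=
  LinearMap.pi fun i => ((LinearMap.proj i : (e.I → o.X.K) →ₗ[o.X.Q] o.X.K) ∘ₗ (WF e n m).subtype).codRestrict (o.X.F m)
    fun w => ((mem_WF e).1 w.2 i).1

theorem gW_apply (n : ℤ) (m : ℕ) (w : WF e n m) (i : e.I) : (gW e n m w i : o.X.K) = (w : e.I → o.X.K) i := rfl

theorem fW_gW (n : ℤ) (m : ℕ) (w : WF e n m) : fW e n m (gW e n m w) = w :=
  Subtype.ext (funext fun i => ((mem_WF e).1 w.2 i).2)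

/-- `WF e n m → GN e n m` -/
def pN (n : ℤ) (m : ℕ) : WF e n m →ₗ[o.X.Q] GN e n m :=
  (((mkG o.X.toOpCpx m).compLeft e.I) ∘ₗ gW e n m).codRestrict _ fun w => mem_GN.2 <| funext fun i => by
    change prG o.X.toOpCpx n m (mkG o.X.toOpCpx m (gW e n m w i)) = mkG o.X.toOpCpx m (gW e n m w i)
    rw [prG_mkG]
    congr 1
    exact Subtype.ext ((mem_WF e).1 w.2 i).2

theorem pN_apply (n : ℤ) (m : ℕ) (w : WF e n m) (i : e.I) :
    (pN e n m w : e.I → GrF o.X.toOpCpx m) i = mkG o.X.toOpCpx m (gW e n m w i) := rfl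

theorem pN_fW (n : ℤ) (m : ℕ) (y : e.I → o.X.F m) :
    (pN e n m (fW e n m y) : e.I → GrF o.X.toOpCpx m) = prI e n m (fun i => mkG o.X.toOpCpx m (y i)) := rfl

theorem pN_surjective (n : ℤ) (m : ℕ) : Function.Surjective (pN e n m) := by
  rintro ⟨g, hg⟩
  choose y hy using fun i => mkG_surjective o.X.toOpCpx m (g i)
  refine ⟨fW e n m y, Subtype.ext ?_⟩
  rw [pN_fW]
  have : (fun i => mkG o.X.toOpCpx m (y i)) = g := funext hy
  rw [this]
  exact mem_GN.1 hg

theorem pN_eq_zero (n : ℤ) (m : ℕ) (w : WF e n m) : pN e n m w = 0 ↔ (w : e.I → o.X.K) ∈ WF e n (m + 1) := by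
  rw [mem_WF]
  constructor
  · intro h i
    have h1 := congrFun (congrArg Subtype.val h) i
    rw [pN_apply] at h1
    exact ⟨(mkG_eq_zero o.X.toOpCpx m _).1 h1, ((mem_WF e).1 w.2 i).2⟩
  · intro h
    refine Subtype.ext (funext fun i => ?_)
    rw [pN_apply]
    exact (mkG_eq_zero o.X.toOpCpx m _).2 (h i).1

/-! ### the coaction -/

theorem incI_injective (m : ℕ) : Function.Injective ((incF (k := k) o.X.toOpCpx m).compLeft e.I) := fun a b h =>
  funext fun i => Subtype.ext (congrFun h i)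

theorem mkI_surjective (m : ℕ) : Function.Surjective ((mkF (k := k) o.X.toOpCpx m).compLeft e.I) := fun g => by
  choose y hy using fun i => mkG_surjective o.X.toOpCpx m (g i)
  exact ⟨y, funext hy⟩

theorem iota_injective (p : ℕ) [IsLb p k] (M : Type*) [AddCommGroup M] [Module k M] :
    Function.Injective ((e.ι : c.H.O →ₐ[k] e.E.O).toLinearMap.lTensor M) := by
  haveI := IsLb.dom (p := p) (k := k)
  haveI := IsLb.char0 (p := p) (k := k)
  exact K787.Adm.lTensor_injective e.adm M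

/-- `prz n` is `H`-equivariant on `I → gr^m` -/
theorem coH_prI (p : ℕ) [IsLb p k] (n : ℤ) (m : ℕ) (g : e.I → GrF o.X.toOpCpx m) :
    (e.coH m).coact (prI e n m g) = ((prI e n m).restrictScalars k).rTensor c.H.O ((e.coH m).coact g) :=
  equi_gr (incI_injective e m) (mkI_surjective e m) (iota_injective e p _) (cV := e.coE.coact)
    (cH := (e.coH m).coact) (e.compat m) (((o.X.prz n).restrictScalars k).compLeft e.I)
    (((prF o.X.toOpCpx n m).compLeft e.I).restrictScalars k) ((prI e n m).restrictScalars k) (fun _ => rfl)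
    (fun _ => rfl) (e.co_prz n) g

theorem sub_GN (p : ℕ) [IsLb p k] (n : ℤ) (m : ℕ) :
    @HopfRep.IsSubcomod k c.H.O _ _ _ _ (e.I → GrF o.X.toOpCpx m) _ _ (e.coH m) ((GN e n m).restrictScalars k) := by
  intro g hg
  have hg' : g ∈ GN e n m := hg
  have h1 := coH_prI e p n m g
  rw [mem_GN.1 hg'] at h1
  refine ⟨((rI e n m).restrictScalars k).rTensor c.H.O ((e.coH m).coact g), Eq.trans ?_ h1.symm⟩
  change (((GN e n m).restrictScalars k).subtype.rTensor c.H.O ∘ₗ ((rI e n m).restrictScalars k).rTensor c.H.O) _ = _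
  rw [← LinearMap.rTensor_comp]
  rfl

/-- the coaction on the part of degree `n` -/
@[reducible] def coN (p : ℕ) [IsLb p k] (n : ℤ) (m : ℕ) : HopfRep.Comod k c.H.O (GN e n m) :=
  ComodSub.Comod.restr (e.coH m) ((GN e n m).restrictScalars k) (sub_GN e p n m)

/-- the inclusion, `k`-linear -/
def jN (n : ℤ) (m : ℕ) : GN e n m →ₗ[k] (e.I → GrF o.X.toOpCpx m) := (GN e n m).subtype.restrictScalars k

theorem jN_injective (n : ℤ) (m : ℕ) : Function.Injective (jN (k := k) e n m) := Subtype.val_injective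

theorem coN_spec (p : ℕ) [IsLb p k] (n : ℤ) (m : ℕ) (g : GN e n m) :
    (jN e n m).rTensor c.H.O ((coN e p n m).coact g) = (e.coH m).coact (jN (k := k) e n m g) :=
  ComodSub.restr_coact_coe (e.coH m) ((GN e n m).restrictScalars k) (sub_GN e p n m) g

/-- **compat in degree `n`** -/
theorem compatN (p : ℕ) [IsLb p k] (n : ℤ) (m : ℕ) (w : WF e n m) : ∃ z : (WF e n m) ⊗[k] e.E.O,
    ((WF e n m).subtype.restrictScalars k).rTensor e.E.O z = e.coE.coact (w : e.I → o.X.K) ∧
    ((pN e n m).restrictScalars k).rTensor e.E.O z =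
      (e.ι : c.H.O →ₐ[k] e.E.O).toLinearMap.lTensor (GN e n m) ((coN e p n m).coact (pN e n m w)) := by
  obtain ⟨z, hz1, hz2⟩ := e.compat m (gW e n m w)
  refine ⟨((fW e n m).restrictScalars k).rTensor e.E.O z, ?_, ?_⟩
  · have h1 : (((o.X.prz n).restrictScalars k).compLeft e.I) (w : e.I → o.X.K) = (w : e.I → o.X.K) :=
      funext fun i => ((mem_WF e).1 w.2 i).2
    have h2 := e.co_prz n (w : e.I → o.X.K)
    rw [h1] at h2
    refine Eq.trans ?_ h2.symm
    have h3 : e.coE.coact (w : e.I → o.X.K) = ((incF o.X.toOpCpx m).compLeft e.I).rTensor e.E.O z := hz1.symm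
    rw [h3]
    exact rTensor_square ((incF o.X.toOpCpx m).compLeft e.I) ((WF e n m).subtype.restrictScalars k)
      ((fW e n m).restrictScalars k) (((o.X.prz n).restrictScalars k).compLeft e.I) (fun _ => rfl) z
  · have hinj : Function.Injective ((jN (k := k) e n m).rTensor e.E.O) :=
      Module.Flat.rTensor_preserves_injective_linearMap _ (jN_injective e n m)
    apply hinj
    have h1 : (jN (k := k) e n m).rTensor e.E.O (((pN e n m).restrictScalars k).rTensor e.E.O
        (((fW e n m).restrictScalars k).rTensor e.E.O z)) =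
        ((prI e n m).restrictScalars k).rTensor e.E.O (((mkF o.X.toOpCpx m).compLeft e.I).rTensor e.E.O z) := by
      rw [← LinearMap.rTensor_comp_apply]
      exact rTensor_square ((mkF o.X.toOpCpx m).compLeft e.I) (jN (k := k) e n m ∘ₗ (pN e n m).restrictScalars k)
        ((fW e n m).restrictScalars k) ((prI e n m).restrictScalars k) (fun _ => rfl) z
    rw [h1, hz2]
    have h2 : ∀ t : (e.I → GrF o.X.toOpCpx m) ⊗[k] c.H.O, ((prI e n m).restrictScalars k).rTensor e.E.O
        ((e.ι : c.H.O →ₐ[k] e.E.O).toLinearMap.lTensor _ t) = (e.ι : c.H.O →ₐ[k] e.E.O).toLinearMap.lTensor _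
          (((prI e n m).restrictScalars k).rTensor c.H.O t) := fun t => by
      rw [← LinearMap.comp_apply, ← LinearMap.comp_apply, LinearMap.rTensor_comp_lTensor,
        LinearMap.lTensor_comp_rTensor]
    have h3 : ∀ t : (GN e n m) ⊗[k] c.H.O, (jN (k := k) e n m).rTensor e.E.O
        ((e.ι : c.H.O →ₐ[k] e.E.O).toLinearMap.lTensor _ t) = (e.ι : c.H.O →ₐ[k] e.E.O).toLinearMap.lTensor _
          ((jN (k := k) e n m).rTensor c.H.O t) := fun t => by
      rw [← LinearMap.comp_apply, ← LinearMap.comp_apply, LinearMap.rTensor_comp_lTensor,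
        LinearMap.lTensor_comp_rTensor]
    rw [h2, h3, coN_spec, ← coH_prI e p]
    congr 2
    exact mem_GN.1 (pN e n m w).2

/-- **the Hopf module formula in degree `n`** -/
theorem hopfN (p : ℕ) [IsLb p k] (n : ℤ) (m : ℕ) (q : o.X.Q) (y : o.X.Q ⊗[k] c.H.O)
    (hy : (piK o).rTensor c.H.O y = (c.ρ ⟨0⟩).ρ (piK o q)) (g : GN e n m) :
    (coN e p n m).coact (q • g) = TensorProduct.map₂ (Algebra.lsmul k k (GN e n m)).toLinearMap
      (LinearMap.mul k c.H.O) y ((coN e p n m).coact g) := by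
  have hinj : Function.Injective ((jN (k := k) e n m).rTensor c.H.O) :=
    Module.Flat.rTensor_preserves_injective_linearMap _ (jN_injective e n m)
  apply hinj
  rw [coN_spec]
  have h1 := e.hopf m q y hy (jN (k := k) e n m g)
  refine h1.trans ?_
  rw [← coN_spec e p]
  have h2 := K774.map₂_nat (O := c.H.O) (Algebra.lsmul k k (GN e n m)).toLinearMap
    (Algebra.lsmul k k (e.I → GrF o.X.toOpCpx m)).toLinearMap LinearMap.id (jN (k := k) e n m) (fun _ _ => rfl) y
    ((coN e p n m).coact g)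
  rw [LinearMap.rTensor_id] at h2
  exact h2.symm

end Groth.Agent.ResProp.EF.K62.GrN
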