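import Groth.Agent.ResProp.EF.K62.FrAlg
import Mathlib.Data.Matrix.Mul
import Mathlib.LinearAlgebra.Matrix.NonsingularInverse

/-!
# `IsTrans` and `IsGTrans` on points: functoriality, composition, uniqueness; the two actions commute
-/

set_option autoImplicit false
universe u

open Groth.Agent.Grpsch.AffGrpd Groth.Agent.ResProp.EF.K412

namespace Groth.Agent.ResProp.EF.K62

variable {A B : Type u} [CommRing A] [CommRing B] {Lb : Type u} [CommRing Lb] [Algebra Lb A] {G : RGrpd A B}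

/-- tensor power of a matrix -/
def tp {K : Type u} [CommRing K] {ι κ : Type} (m : ℕ) (X : Matrix ι κ K) : Matrix (Fin m → ι) (Fin m → κ) K :=
  Matrix.of fun Q J => ∏ k, X (Q k) (J k)

theorem tp_apply {K : Type u} [CommRing K] {ι κ : Type} (m : ℕ) (X : Matrix ι κ K) (Q : Fin m → ι) (J : Fin m → κ) :
    tp m X Q J = ∏ k, X (Q k) (J k) := rfl

theorem tp_mul {K : Type u} [CommRing K] {ι κ l : Type} [Fintype κ] (m : ℕ) (X : Matrix ι κ K) (Y : Matrix κ l K) :
    tp m (X * Y) = tp m X * tp m Y := by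
  classical
  ext Q J
  simp only [tp_apply, Matrix.mul_apply, Finset.prod_univ_sum, ← Finset.prod_mul_distrib, Fintype.piFinset_univ]

theorem tp_one {K : Type u} [CommRing K] {ι : Type} [DecidableEq ι] (m : ℕ) :
    tp m (1 : Matrix ι ι K) = 1 := by
  ext Q J
  rw [tp_apply]
  by_cases h : Q = J
  · subst h
    simp
  · rw [Matrix.one_apply_ne h]
    obtain ⟨k, hk⟩ := Function.ne_iff.1 h
    exact Finset.prod_eq_zero (Finset.mem_univ k) (Matrix.one_apply_ne hk)

theorem tp_map {K K' : Type u} [CommRing K] [CommRing K'] {ι κ : Type} (m : ℕ) (X : Matrix ι κ K) (f : K →+* K') :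
    tp m (X.map f) = (tp m X).map f := by
  ext Q J
  simp [tp_apply, map_prod]

theorem isUnit_tp {K : Type u} [CommRing K] {ι : Type} [Fintype ι] [DecidableEq ι] (m : ℕ) {X : Matrix ι ι K}
    (h : IsUnit X) : IsUnit (tp m X) := by
  obtain ⟨⟨X, Y, h1, h2⟩, rfl⟩ := h
  refine ⟨⟨tp m X, tp m Y, ?_, ?_⟩, rfl⟩
  · rw [← tp_mul, h1, tp_one]
  · rw [← tp_mul, h2, tp_one]

section

variable {D : Gen Lb G} {r1 rm : ℕ} {K K' : Type u} [CommRing K] [CommRing K']

/-- the `mu`-equation of `IsGTrans` in matrix form -/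
theorem hmu_iff {X : Matrix (Fin r1) (Fin r1) K} {Xm : Matrix (Fin rm) (Fin rm) K} {P P' : FrPt D r1 rm K} :
    (∀ b (J : Fin D.m → Fin r1), ∑ Q : Fin D.m → Fin r1, P'.mu b Q * ∏ k, X (Q k) (J k) = ∑ d, Xm b d * P.mu d J) ↔
      P'.mu * tp D.m X = Xm * P.mu := by
  constructor
  · intro h
    ext b J
    exact h b J
  · intro h b J
    exact congrFun (congrFun h b) J

theorem IsGTrans.mu_eq {X : Matrix (Fin r1) (Fin r1) K} {Xm : Matrix (Fin rm) (Fin rm) K} {P P' : FrPt D r1 rm K}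
    (h : IsGTrans X Xm P P') : P'.mu * tp D.m X = Xm * P.mu := hmu_iff.1 h.hmu

/-- functoriality -/
theorem IsGTrans.map {X : Matrix (Fin r1) (Fin r1) K} {Xm : Matrix (Fin rm) (Fin rm) K} {P P' : FrPt D r1 rm K}
    (h : IsGTrans X Xm P P') (f : K →+* K') : IsGTrans (X.map f) (Xm.map f) (P.map f) (P'.map f) where
  ha := congrArg (fun g => f.comp g) h.ha
  hM := by
    change P'.M.map f = X.map f * P.M.map f
    rw [h.hM, Matrix.map_mul]
  hMm := by
    change P'.Mm.map f = Xm.map f * P.Mm.map f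
    rw [h.hMm, Matrix.map_mul]
  hmu := by
    rw [hmu_iff, tp_map]
    change P'.mu.map f * _ = _ * P.mu.map f
    rw [← Matrix.map_mul, ← Matrix.map_mul, IsGTrans.mu_eq h]

theorem IsGTrans.one (P : FrPt D r1 rm K) : IsGTrans 1 1 P P where
  ha := rfl
  hM := (Matrix.one_mul _).symm
  hMm := (Matrix.one_mul _).symm
  hmu := by rw [hmu_iff, tp_one, Matrix.mul_one, Matrix.one_mul]

theorem IsGTrans.trans {X Y : Matrix (Fin r1) (Fin r1) K} {Xm Ym : Matrix (Fin rm) (Fin rm) K}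
    {P P' P'' : FrPt D r1 rm K} (h : IsGTrans X Xm P P') (h' : IsGTrans Y Ym P' P'') :
    IsGTrans (Y * X) (Ym * Xm) P P'' where
  ha := h'.ha.trans h.ha
  hM := by rw [h'.hM, h.hM, Matrix.mul_assoc]
  hMm := by rw [h'.hMm, h.hMm, Matrix.mul_assoc]
  hmu := by
    rw [hmu_iff, tp_mul, ← Matrix.mul_assoc, IsGTrans.mu_eq h', Matrix.mul_assoc, IsGTrans.mu_eq h, Matrix.mul_assoc]

/-- the point `(X, Xm) • P` is unique -/
theorem IsGTrans.unique {X : Matrix (Fin r1) (Fin r1) K} {Xm : Matrix (Fin rm) (Fin rm) K} {P P' P'' : FrPt D r1 rm K}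
    (hX : IsUnit X) (h : IsGTrans X Xm P P') (h' : IsGTrans X Xm P P'') : P' = P'' := by
  refine frPt_ext (h.ha.trans h'.ha.symm) (h.hM.trans h'.hM.symm) (h.hMm.trans h'.hMm.symm) ?_
  have h1 : P'.mu * tp D.m X = P''.mu * tp D.m X := (IsGTrans.mu_eq h).trans (IsGTrans.mu_eq h').symm
  obtain ⟨⟨Z, W, e1, e2⟩, hZ⟩ := isUnit_tp D.m hX
  have hZ' : Z = tp D.m X := hZ
  rw [← hZ'] at h1
  calc P'.mu = P'.mu * Z * W := by rw [Matrix.mul_assoc, e1, Matrix.mul_one]
    _ = P''.mu * Z * W := by rw [h1]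
    _ = P''.mu := by rw [Matrix.mul_assoc, e1, Matrix.mul_one]

/-- functoriality of `IsTrans` -/
theorem IsTrans.map {γ : B →+* K} {P P' : FrPt D r1 rm K} (h : IsTrans γ P P') (f : K →+* K') :
    IsTrans (f.comp γ) (P.map f) (P'.map f) where
  src := congrArg (fun g => f.comp g) h.src
  tgt := congrArg (fun g => f.comp g) h.tgt
  hM b j := by
    change f (P'.M b j) = ∑ i, f (P.M b i) * f (γ (G.i (D.g i j)))
    rw [h.hM, map_sum]
    simp only [map_mul]
  hMm b J := by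
    change f (P'.Mm b J) = ∑ I : Fin D.m → Fin D.n, f (P.Mm b I) * ∏ k, f (γ (G.i (D.g (I k) (J k))))
    rw [h.hMm, map_sum]
    simp only [map_mul, map_prod]
  hmu := congrArg (fun g => g.map f) h.hmu

/-- `γ • P` is unique -/
theorem IsTrans.unique {γ : B →+* K} {P P' P'' : FrPt D r1 rm K} (h : IsTrans γ P P') (h' : IsTrans γ P P'') :
    P' = P'' := by
  refine frPt_ext (h.tgt.symm.trans h'.tgt) ?_ ?_ (h.hmu.trans h'.hmu.symm)
  · ext b j
    rw [h.hM, h'.hM]
  · ext b J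
    rw [h.hMm, h'.hMm]

/-- **the two actions commute** -/
theorem IsTrans.gtrans {γ : B →+* K} {X : Matrix (Fin r1) (Fin r1) K} {Xm : Matrix (Fin rm) (Fin rm) K}
    {P P' Q Q' : FrPt D r1 rm K} (hX : IsUnit X) (h : IsTrans γ P P') (hQ : IsGTrans X Xm P Q)
    (hQ' : IsGTrans X Xm P' Q') : IsTrans γ Q Q' where
  src := h.src.trans hQ.ha.symm
  tgt := h.tgt.trans hQ'.ha.symm
  hM b j := by
    rw [hQ'.hM, hQ.hM]
    simp only [Matrix.mul_apply, h.hM, Finset.mul_sum, Finset.sum_mul]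
    rw [Finset.sum_comm]
    simp only [mul_assoc]
  hMm b J := by
    rw [hQ'.hMm, hQ.hMm]
    simp only [Matrix.mul_apply, h.hMm, Finset.mul_sum, Finset.sum_mul]
    rw [Finset.sum_comm]
    simp only [mul_assoc]
  hmu := by
    have h1 : Q'.mu * tp D.m X = Q.mu * tp D.m X := by
      rw [IsGTrans.mu_eq hQ', IsGTrans.mu_eq hQ, h.hmu]
    obtain ⟨⟨Z, W, e1, e2⟩, hZ⟩ := isUnit_tp D.m hX
    have hZ' : Z = tp D.m X := hZ
    rw [← hZ'] at h1
    calc Q'.mu = Q'.mu * Z * W := by rw [Matrix.mul_assoc, e1, Matrix.mul_one]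
      _ = Q.mu * Z * W := by rw [h1]
      _ = Q.mu := by rw [Matrix.mul_assoc, e1, Matrix.mul_one]

/-- converse: if `γ • P = P'` and `γ • Q = Q'` with `Q = (X, Xm) • P`, then `Q' = (X, Xm) • P'` -/
theorem IsGTrans.trans_of {γ : B →+* K} {X : Matrix (Fin r1) (Fin r1) K} {Xm : Matrix (Fin rm) (Fin rm) K}
    {P P' Q Q' : FrPt D r1 rm K} (h : IsTrans γ P P') (hQ : IsGTrans X Xm P Q) (h' : IsTrans γ Q Q') :
    IsGTrans X Xm P' Q' where
  ha := h'.tgt.symm.trans h.tgt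
  hM := by
    ext b j
    rw [h'.hM, hQ.hM]
    simp only [Matrix.mul_apply, h.hM, Finset.mul_sum, Finset.sum_mul]
    rw [Finset.sum_comm]
    simp only [mul_assoc]
  hMm := by
    ext b J
    rw [h'.hMm, hQ.hMm]
    simp only [Matrix.mul_apply, h.hMm, Finset.mul_sum, Finset.sum_mul]
    rw [Finset.sum_comm]
    simp only [mul_assoc]
  hmu := by
    rw [hmu_iff, h'.hmu, h.hmu]
    exact IsGTrans.mu_eq hQ

end

end Groth.Agent.ResProp.EF.K62
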